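import Mathlib

/-! # Descent of the Jacobson property along flat surjective maps of finite type -/

universe u

namespace GrothLib.JacobsonDescent

theorem isIntegrallyClosed_mvPolynomial (R : Type u) [CommRing R] [IsDomain R] [IsIntegrallyClosed R] :
    ∀ s : ℕ, IsIntegrallyClosed (MvPolynomial (Fin s) R)
  | 0 => .of_equiv (MvPolynomial.isEmptyRingEquiv R (Fin 0)).symm
  | s + 1 =>
    haveI := isIntegrallyClosed_mvPolynomial R s
    .of_equiv (MvPolynomial.finSuccEquiv R s).symm.toRingEquiv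

variable {V C : Type u} [CommRing V] [IsDomain V] [ValuationRing V] [CommRing C] [IsDomain C]
  [Algebra V C]

theorem lift_injective (hinj : Function.Injective (algebraMap V C)) {s : ℕ}
    (c : Fin s → C) (hc : ∀ P : MvPolynomial (Fin s) V,
      MvPolynomial.aeval c P ∈ (IsLocalRing.maximalIdeal V).map (algebraMap V C) →
      ∀ d, P.coeff d ∈ IsLocalRing.maximalIdeal V) :
    Function.Injective (MvPolynomial.aeval (R := V) c) := by
  classical
  rw [injective_iff_map_eq_zero]
  intro P hP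
  by_contra hne
  have key : ∀ S : Finset (Fin s →₀ ℕ), S.Nonempty → (∀ d ∈ S, P.coeff d ≠ 0) →
      ∃ d₀ ∈ S, ∀ d ∈ S, P.coeff d₀ ∣ P.coeff d := by
    intro S hS
    induction hS using Finset.Nonempty.cons_induction with
    | singleton a => exact fun _ => ⟨a, by simp, by simp⟩
    | cons a T haT hT ih =>
      intro hne
      obtain ⟨d₀, hd₀, hmin⟩ := ih fun d hd => hne d (Finset.mem_cons_of_mem hd)
      rcases ValuationRing.dvd_total (P.coeff d₀) (P.coeff a) with h | h
      · exact ⟨d₀, Finset.mem_cons_of_mem hd₀, fun d hd => (Finset.mem_cons.mp hd).elim (fun e => e ▸ h) (hmin d)⟩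
      · refine ⟨a, Finset.mem_cons_self _ _, fun d hd => (Finset.mem_cons.mp hd).elim (fun e => e ▸ dvd_rfl) fun hd => ?_⟩
        exact h.trans (hmin d hd)
  obtain ⟨d₀, hd₀, hmin⟩ := key P.support (MvPolynomial.support_nonempty.mpr hne)
    fun d hd => MvPolynomial.mem_support_iff.mp hd
  obtain ⟨P₀, hP₀⟩ : MvPolynomial.C (P.coeff d₀) ∣ P := by
    refine MvPolynomial.C_dvd_iff_dvd_coeff _ _ |>.mpr fun d => ?_
    by_cases hd : d ∈ P.support
    · exact hmin d hd
    · rw [MvPolynomial.notMem_support_iff.mp hd]; exact dvd_zero _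
  have h0 : P.coeff d₀ ≠ 0 := MvPolynomial.mem_support_iff.mp hd₀
  rw [hP₀, map_mul, MvPolynomial.aeval_C, mul_eq_zero] at hP
  rcases hP with hP | hP
  · exact h0 (hinj (by rw [hP, map_zero]))
  · have h1 := hc P₀ (hP ▸ zero_mem _) d₀
    have h2 := congrArg (MvPolynomial.coeff d₀) hP₀
    rw [MvPolynomial.coeff_C_mul] at h2
    have : P₀.coeff d₀ = 1 := mul_left_cancel₀ h0 (by rw [mul_one]; exact h2.symm)
    rw [this] at h1
    exact (IsLocalRing.maximalIdeal.isMaximal V).ne_top ((Ideal.eq_top_iff_one _).mpr h1)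

/-- A nonempty closed fibre of a domain of finite type over a valuation ring contains a
specialization of a closed point of the generic fibre. -/
theorem exists_closed_generic_le [Algebra.FiniteType V C]
    (hinj : Function.Injective (algebraMap V C))
    (hne : (IsLocalRing.maximalIdeal V).map (algebraMap V C) ≠ ⊤) :
    ∃ Q z : Ideal C, Q.IsPrime ∧ z.IsPrime ∧ Q ≤ z ∧
      z.comap (algebraMap V C) = IsLocalRing.maximalIdeal V ∧ Q.comap (algebraMap V C) = ⊥ ∧
      ∀ Q₂ : Ideal C, Q₂.IsPrime → Q ≤ Q₂ → Q₂.comap (algebraMap V C) = ⊥ → Q₂ ≤ Q := by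
  classical
  set m := IsLocalRing.maximalIdeal V
  set J := m.map (algebraMap V C)
  let k := V ⧸ m
  letI : Field k := Ideal.Quotient.field m
  haveI : Nontrivial (C ⧸ J) := Ideal.Quotient.nontrivial_iff.mpr hne
  letI algk : Algebra k (C ⧸ J) :=
    (Ideal.quotientMap J (algebraMap V C) Ideal.le_comap_map).toAlgebra
  haveI : IsScalarTower V k (C ⧸ J) := .of_algebraMap_eq' rfl
  haveI : Algebra.FiniteType k (C ⧸ J) :=
    .of_restrictScalars_finiteType V k _
  obtain ⟨s, g, hginj, hgfin⟩ := exists_finite_inj_algHom_of_fg k (C ⧸ J)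
  choose c hc using fun i => Ideal.Quotient.mk_surjective (I := J) (g (MvPolynomial.X i))
  let h : MvPolynomial (Fin s) V →ₐ[V] C := MvPolynomial.aeval c
  have hcomm : ∀ P, Ideal.Quotient.mk J (h P) = g (MvPolynomial.map (Ideal.Quotient.mk m) P) := by
    intro P
    induction P using MvPolynomial.induction_on with
    | C a =>
      rw [MvPolynomial.map_C, MvPolynomial.aeval_C, ← MvPolynomial.algebraMap_eq, g.commutes]
      rfl
    | add p q hp hq => simp [hp, hq]
    | mul_X p i hp => simp [h, hc] at hp ⊢; rw [hp]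
  have hhinj : Function.Injective h := lift_injective hinj c fun P hP d => by
    have : MvPolynomial.map (Ideal.Quotient.mk m) P = 0 := hginj (by
      rw [map_zero, ← hcomm, Ideal.Quotient.eq_zero_iff_mem]; exact hP)
    have := congrArg (MvPolynomial.coeff d) this
    rwa [MvPolynomial.coeff_map, MvPolynomial.coeff_zero, Ideal.Quotient.eq_zero_iff_mem] at this
  -- base `V[T]`
  let R := MvPolynomial (Fin s) V
  letI algR : Algebra R C := h.toRingHom.toAlgebra
  haveI : IsScalarTower V R C := .of_algebraMap_eq' h.comp_algebraMap.symm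
  haveI : Algebra.FiniteType R C := .of_restrictScalars_finiteType V R C
  haveI : FaithfulSMul R C := (faithfulSMul_iff_algebraMap_injective R C).mpr hhinj
  haveI := isIntegrallyClosed_mvPolynomial V s
  -- the closed point
  let ρ : R →+* MvPolynomial (Fin s) k := MvPolynomial.map (Ideal.Quotient.mk m)
  let e0 : MvPolynomial (Fin s) k →+* k := MvPolynomial.constantCoeff
  let q0 : Ideal (MvPolynomial (Fin s) k) := RingHom.ker e0
  haveI : q0.IsMaximal := RingHom.ker_isMaximal_of_surjective e0 fun a => ⟨MvPolynomial.C a, by simp [e0]⟩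
  letI := g.toRingHom.toAlgebra
  haveI : Module.Finite (MvPolynomial (Fin s) k) (C ⧸ J) := hgfin
  haveI : FaithfulSMul (MvPolynomial (Fin s) k) (C ⧸ J) := (faithfulSMul_iff_algebraMap_injective _ _).mpr hginj
  obtain ⟨z0, hz0max, hz0over⟩ := Ideal.exists_maximal_ideal_liesOver_of_isIntegral q0 (S := C ⧸ J)
  let z : Ideal C := z0.comap (Ideal.Quotient.mk J)
  haveI : z.IsPrime := Ideal.comap_isPrime _ _
  let q : Ideal R := q0.comap ρ
  have hzq : z.under R = q := by
    ext P
    show Ideal.Quotient.mk J (h P) ∈ z0 ↔ ρ P ∈ q0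
    rw [hcomm, hz0over.over]; rfl
  have hzm : z.comap (algebraMap V C) = m := by
    refine (IsLocalRing.maximalIdeal.isMaximal V).eq_of_le (Ideal.IsPrime.ne_top inferInstance) ?_ |>.symm
    intro v hv
    show Ideal.Quotient.mk J (algebraMap V C v) ∈ z0
    rw [Ideal.Quotient.eq_zero_iff_mem.mpr (Ideal.mem_map_of_mem _ hv)]; exact zero_mem _
  haveI : Algebra.QuasiFiniteAt R z := by
    haveI hfinfib : Finite (q0.primesOver (C ⧸ J)) := (Algebra.QuasiFinite.finite_primesOver q0).to_subtype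
    refine Algebra.QuasiFiniteAt.of_isOpen_singleton_fiber (R := R) ⟨z, inferInstance⟩ ?_
    let S := PrimeSpectrum.comap (algebraMap R C) ⁻¹'
      {PrimeSpectrum.comap (algebraMap R C) (⟨z, inferInstance⟩ : PrimeSpectrum C)}
    have hJle : ∀ w : PrimeSpectrum C, w ∈ S → J ≤ w.asIdeal := by
      intro w hw
      have hw' : w.asIdeal.comap (algebraMap R C) = q := by
        rw [← hzq]; exact congrArg PrimeSpectrum.asIdeal hw
      refine Ideal.map_le_iff_le_comap.mpr fun v hv => ?_
      have : algebraMap V R v ∈ q := by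
        show ρ (MvPolynomial.C v) ∈ q0
        rw [show ρ (MvPolynomial.C v) = 0 by
          rw [show ρ (MvPolynomial.C v) = MvPolynomial.C (Ideal.Quotient.mk m v) from MvPolynomial.map_C _ v,
            Ideal.Quotient.eq_zero_iff_mem.mpr hv, map_zero]]
        exact zero_mem _
      rw [← hw'] at this
      rwa [Ideal.mem_comap, ← IsScalarTower.algebraMap_apply] at this
    let w' : S → Ideal (C ⧸ J) := fun w => w.1.asIdeal.map (Ideal.Quotient.mk J)
    have hcomap : ∀ w : S, (w' w).comap (Ideal.Quotient.mk J) = w.1.asIdeal := fun w => by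
      rw [Ideal.comap_map_of_surjective _ Ideal.Quotient.mk_surjective, ← RingHom.ker_eq_comap_bot,
        Ideal.mk_ker, sup_eq_left.mpr (hJle _ w.2)]
    have hprime : ∀ w : S, (w' w).IsPrime := fun w =>
      Ideal.map_isPrime_of_surjective Ideal.Quotient.mk_surjective (by
        rw [Ideal.mk_ker]; exact hJle w.1 w.2)
    have hover : ∀ w : S, (w' w).LiesOver q0 := fun w => ⟨by
      ext Pb
      obtain ⟨P, rfl⟩ := MvPolynomial.map_surjective (Ideal.Quotient.mk m) Ideal.Quotient.mk_surjective Pb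
      have hw' : w.1.asIdeal.comap (algebraMap R C) = q := by
        rw [← hzq]; exact congrArg PrimeSpectrum.asIdeal w.2
      show P ∈ q ↔ g _ ∈ w' w
      rw [← hw', ← hcomm, ← Ideal.mem_comap, ← Ideal.mem_comap, hcomap]
      rfl⟩
    haveI : Finite S := Finite.of_injective (fun w : S => (⟨w' w, hprime w, hover w⟩ : q0.primesOver (C ⧸ J)))
      fun a b hab => Subtype.ext (PrimeSpectrum.ext (by
        rw [← hcomap a, ← hcomap b]; exact congrArg _ (congrArg Subtype.val hab)))
    haveI : T1Space S := ⟨fun w => by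
      haveI := hprime w
      haveI := hover w
      haveI : (w' w).IsMaximal := Ideal.IsMaximal.of_liesOver_isMaximal (w' w) q0
      have hmax : w.1.asIdeal.IsMaximal := hcomap w ▸
        Ideal.comap_isMaximal_of_surjective _ Ideal.Quotient.mk_surjective
      have hc : IsClosed ({w.1} : Set (PrimeSpectrum C)) :=
        (PrimeSpectrum.isClosed_singleton_iff_isMaximal _).mpr hmax
      convert hc.preimage continuous_subtype_val using 1
      ext x; simp [Subtype.ext_iff]⟩
    exact isOpen_discrete _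
  obtain ⟨r, hrz, hrint, hr⟩ := Algebra.zariskisMainProperty_iff.mp
    (Algebra.ZariskisMainProperty.of_finiteType (R := R) z)
  let C' := integralClosure R C
  haveI : FaithfulSMul R C' := (faithfulSMul_iff_algebraMap_injective R C').mpr
    fun a b e => hhinj (congrArg Subtype.val e)
  let z' : Ideal C' := z.comap C'.val.toRingHom
  haveI : z'.IsPrime := Ideal.comap_isPrime _ _
  let ev : R →+* V := MvPolynomial.constantCoeff
  let P : Ideal R := RingHom.ker ev
  haveI : P.IsPrime := RingHom.ker_isPrime ev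
  haveI : q.IsPrime := Ideal.comap_isPrime _ _
  have hPq : P ≤ q := fun x (hx : ev x = 0) => by
    show e0 (ρ x) = 0
    exact (MvPolynomial.constantCoeff_map _ x).trans (by rw [show MvPolynomial.constantCoeff x = 0 from hx, map_zero])
  haveI : z'.LiesOver q := ⟨by rw [← hzq]; rfl⟩
  obtain ⟨Q', hQz, hQ'p, hQ'over⟩ := Ideal.exists_ideal_le_liesOver_of_le (p := P) (q := q) z' hPq
  let r' : C' := ⟨r, hrint⟩
  have hrQ : r' ∉ Q' := fun h => hrz (hQz h)
  have hQV : ∀ v : V, (algebraMap V C' v) ∈ Q' → v = 0 := fun v hv => by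
    rw [IsScalarTower.algebraMap_apply V R C'] at hv
    have : MvPolynomial.C v ∈ P := by rw [hQ'over.over]; exact hv
    have h0 : MvPolynomial.constantCoeff (MvPolynomial.C v : R) = 0 := this
    exact (MvPolynomial.constantCoeff_C (σ := Fin s) v).symm.trans h0
  -- the prime `Q`
  let Q : Ideal C :=
    { carrier := {x | ∃ (n : ℕ) (hx : IsIntegral R (r ^ n * x)), (⟨_, hx⟩ : C') ∈ Q'}
      zero_mem' := ⟨0, by rw [mul_zero]; exact isIntegral_zero, by
        convert Q'.zero_mem using 1; exact Subtype.ext (mul_zero _)⟩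
      add_mem' := by
        rintro x y ⟨n, hx, hx'⟩ ⟨n', hy, hy'⟩
        have h1 : (r' ^ n' * ⟨_, hx⟩ + r' ^ n * ⟨_, hy⟩ : C') ∈ Q' :=
          add_mem (Q'.mul_mem_left _ hx') (Q'.mul_mem_left _ hy')
        have h2 : ((r' ^ n' * ⟨_, hx⟩ + r' ^ n * ⟨_, hy⟩ : C') : C) = r ^ (n + n') * (x + y) := by
          simp [r', pow_add]; ring
        exact ⟨n + n', h2 ▸ (_ : C').2, by convert h1 using 1; exact Subtype.ext h2.symm⟩
      smul_mem' := by
        rintro a x ⟨n, hx, hx'⟩
        obtain ⟨n', ha⟩ := hr a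
        have h1 : ((⟨_, ha⟩ : C') * ⟨_, hx⟩) ∈ Q' := Q'.mul_mem_left _ hx'
        have h2 : (((⟨_, ha⟩ : C') * ⟨_, hx⟩ : C') : C) = r ^ (n' + n) * (a • x) := by
          simp [pow_add]; ring
        exact ⟨n' + n, h2 ▸ (_ : C').2, by convert h1 using 1; exact Subtype.ext h2.symm⟩ }
  have mem_Q : ∀ w : C', (w : C) ∈ Q ↔ w ∈ Q' := by
    intro w
    refine ⟨fun h => ?_, fun hw => ?_⟩
    swap
    · have h0 : IsIntegral R (r ^ 0 * (w : C)) := by rw [pow_zero, one_mul]; exact w.2
      have e : (⟨_, h0⟩ : C') = w := Subtype.ext (show r ^ 0 * (w : C) = w by rw [pow_zero, one_mul])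
      exact ⟨0, h0, by rw [e]; exact hw⟩
    obtain ⟨n, hx, hx'⟩ := h
    have : r' ^ n * w ∈ Q' := by
      have e : (⟨_, hx⟩ : C') = r' ^ n * w := Subtype.ext rfl
      rwa [e] at hx'
    exact (hQ'p.mem_or_mem this).resolve_left fun h => hrQ (hQ'p.mem_of_pow_mem n h)
  have pow_mem_Q : ∀ (n : ℕ) (x : C), r ^ n * x ∈ Q → x ∈ Q := by
    rintro n x ⟨n', hx, hx'⟩
    refine ⟨n' + n, by rw [pow_add, mul_assoc]; exact hx, ?_⟩
    convert hx' using 2; ring
  have hQprime : Q.IsPrime := by
    refine ⟨fun h => ?_, fun {x y} hxy => ?_⟩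
    · have := (mem_Q 1).mp (by rw [h]; trivial)
      exact hQ'p.ne_top ((Ideal.eq_top_iff_one _).mpr this)
    · obtain ⟨n, hn⟩ := hr x
      obtain ⟨n', hn'⟩ := hr y
      have h0 : (((⟨_, hn⟩ : C') * ⟨_, hn'⟩ : C') : C) ∈ Q := by
        have := Q.mul_mem_left (r ^ n * r ^ n') hxy
        convert this using 1
        show r ^ n * x * (r ^ n' * y) = _
        ring
      rcases hQ'p.mem_or_mem ((mem_Q _).mp h0) with h | h
      · exact .inl (pow_mem_Q n x ((mem_Q ⟨_, hn⟩).mpr h))
      · exact .inr (pow_mem_Q n' y ((mem_Q ⟨_, hn'⟩).mpr h))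
  refine ⟨Q, z, hQprime, inferInstance, ?_, hzm, ?_, ?_⟩
  · rintro x ⟨n, hx, hx'⟩
    exact ((‹z.IsPrime›).mem_or_mem (hQz hx' : r ^ n * x ∈ z)).resolve_left
      fun h => hrz ((‹z.IsPrime›).mem_of_pow_mem n h)
  · rw [eq_bot_iff]
    intro v hv
    exact hQV v ((mem_Q (algebraMap V C' v)).mp hv)
  · intro Q₂ hQ₂ hle hbot x hx
    by_contra hxQ
    obtain ⟨n, hn⟩ := hr x
    set w : C' := ⟨_, hn⟩
    have hwQ : w ∉ Q' := fun h => hxQ (pow_mem_Q n x ((mem_Q w).mpr h))
    have hw2 : (w : C) ∈ Q₂ := Q₂.mul_mem_left _ hx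
    haveI := hQ'p
    let wb : C' ⧸ Q' := Ideal.Quotient.mk Q' w
    have hwb : wb ≠ 0 := fun h => hwQ (Ideal.Quotient.eq_zero_iff_mem.mp h)
    -- `C'/Q'` is integral over `V`
    letI : Algebra V (C' ⧸ Q') := inferInstance
    have hint : IsIntegral V wb := by
      obtain ⟨p, hp1, hp2⟩ := (Algebra.IsIntegral.isIntegral (R := R) w)
      refine ⟨p.map ev, hp1.map ev, ?_⟩
      have hfac : (algebraMap V (C' ⧸ Q')).comp ev = (Ideal.Quotient.mk Q').comp (algebraMap R C') := by
        refine RingHom.ext fun a => ?_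
        show algebraMap V (C' ⧸ Q') (ev a) = Ideal.Quotient.mk Q' (algebraMap R C' a)
        rw [IsScalarTower.algebraMap_apply V R (C' ⧸ Q'), ← Ideal.Quotient.algebraMap_eq,
          ← IsScalarTower.algebraMap_apply R C' (C' ⧸ Q'),
          IsScalarTower.algebraMap_apply R C' (C' ⧸ Q'), IsScalarTower.algebraMap_apply R C' (C' ⧸ Q') a,
          Ideal.Quotient.algebraMap_eq, Ideal.Quotient.mk_eq_mk_iff_sub_mem, ← map_sub]
        show algebraMap R C' _ ∈ Q'
        rw [← Ideal.mem_comap, ← Ideal.under, ← hQ'over.over]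
        show MvPolynomial.constantCoeff (MvPolynomial.C (MvPolynomial.constantCoeff a) - a) = 0
        rw [map_sub, MvPolynomial.constantCoeff_C, sub_self]
      rw [Polynomial.eval₂_map, hfac, ← Polynomial.hom_eval₂, hp2, map_zero]
    have hI : (Ideal.map (Ideal.Quotient.mk Q') (Q₂.comap C'.val.toRingHom)).comap
        (algebraMap V (C' ⧸ Q')) ≠ ⊥ :=
      Ideal.comap_ne_bot_of_integral_mem hwb (Ideal.mem_map_of_mem _ (by exact hw2)) hint
    refine hI (eq_bot_iff.mpr fun v hv => ?_)
    rw [Ideal.mem_comap, IsScalarTower.algebraMap_apply V C' (C' ⧸ Q'), Ideal.Quotient.algebraMap_eq,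
      Ideal.mem_quotient_iff_mem] at hv
    · have : v ∈ Q₂.comap (algebraMap V C) := hv
      rwa [hbot] at this
    · exact fun a ha => hle ((mem_Q a).mpr ha)

open TensorProduct in
set_option maxHeartbeats 1600000 in
theorem isJacobsonRing_of_faithfullyFlat_finiteType (A B : Type u) [CommRing A] [CommRing B]
    [Algebra A B] [Module.FaithfullyFlat A B] [Algebra.FiniteType A B] [IsJacobsonRing B] :
    IsJacobsonRing A := by
  classical
  rw [isJacobsonRing_iff_prime_eq]
  intro p hp
  refine le_antisymm (fun f hf => ?_) Ideal.le_jacobson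
  by_contra hfp
  have hdisj : Disjoint (Submonoid.powers f : Set A) (p : Set A) :=
    Set.disjoint_left.mpr fun x ⟨n, hn⟩ hx => hfp (hp.mem_of_pow_mem n (by
      rw [show f ^ n = x from hn]; exact hx))
  -- a prime maximal among those avoiding `f`
  let Af := Localization.Away f
  obtain ⟨M₀, hM₀, hpM₀⟩ := Ideal.exists_le_maximal (p.map (algebraMap A Af))
    (IsLocalization.map_algebraMap_ne_top_iff_disjoint (Submonoid.powers f) Af p |>.mpr hdisj)
  let p' : Ideal A := M₀.comap (algebraMap A Af)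
  haveI : p'.IsPrime := Ideal.comap_isPrime _ _
  have hfp' : f ∉ p' := fun h => hM₀.ne_top (Ideal.eq_top_of_isUnit_mem _ h
    (IsLocalization.Away.algebraMap_isUnit f))
  have hmaxp : ∀ P : Ideal A, P.IsPrime → p' ≤ P → f ∉ P → P = p' := by
    intro P hP hle hfP
    have hd : Disjoint (Submonoid.powers f : Set A) (P : Set A) :=
      Set.disjoint_left.mpr fun x ⟨n, hn⟩ hx => hfP (hP.mem_of_pow_mem n (by
        rw [show f ^ n = x from hn]; exact hx))
    haveI := IsLocalization.isPrime_of_isPrime_disjoint (Submonoid.powers f) Af P hP hd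
    have h1 := hM₀.eq_of_le (Ideal.IsPrime.ne_top this)
      ((IsLocalization.map_comap (Submonoid.powers f) Af M₀).symm.le.trans (Ideal.map_mono hle))
    show P = M₀.comap _
    rw [h1]
    exact (IsLocalization.comap_map_of_isPrime_disjoint (Submonoid.powers f) Af hP hd).symm
  have hnotmax : ¬ p'.IsMaximal := fun h => hfp' (Ideal.mem_sInf.mp hf
    ⟨(Ideal.le_comap_of_map_le hpM₀), h⟩)
  obtain ⟨q, hq, hp'q⟩ := Ideal.exists_le_maximal p' (Ideal.IsPrime.ne_top inferInstance)
  have hne : p' ≠ q := fun h => hnotmax (h ▸ hq)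
  have hfq : f ∈ q := by
    by_contra h
    exact hne (hmaxp q hq.isPrime hp'q h).symm
  -- a valuation ring
  let D := A ⧸ p'
  let K := FractionRing D
  let ψ : A →+* K := (algebraMap D K).comp (Ideal.Quotient.mk p')
  have hψ : ∀ a, ψ a = 0 ↔ a ∈ p' := fun a => by
    rw [show ψ a = algebraMap D K (Ideal.Quotient.mk p' a) from rfl,
      map_eq_zero_iff _ (IsFractionRing.injective D K), Ideal.Quotient.eq_zero_iff_mem]
  obtain ⟨Vs, hVs, hnon⟩ := Ideal.image_subset_nonunits_valuationSubring (A := ψ.range)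
    (q.map ψ.rangeRestrict) (by
      intro h
      obtain ⟨a, ha, ha1⟩ := (Ideal.mem_map_iff_of_surjective _ ψ.rangeRestrict_surjective).mp
        ((Ideal.eq_top_iff_one _).mp h)
      have : ψ (a - 1) = 0 := by
        rw [map_sub, map_one, sub_eq_zero]; exact congrArg Subtype.val ha1
      exact hq.ne_top ((Ideal.eq_top_iff_one _).mpr (by
        have := sub_mem ha (hp'q ((hψ _).mp this))
        simpa using this)))
  letI algV : Algebra A Vs := (ψ.codRestrict Vs.toSubring fun a => hVs ⟨a, rfl⟩).toAlgebra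
  let φ : A →+* Vs := algebraMap A Vs
  have hφ : ∀ a, (φ a : K) = ψ a := fun a => rfl
  have hqV : ∀ a ∈ q, φ a ∈ IsLocalRing.maximalIdeal Vs := fun a ha => by
    have h : ψ a ∈ (Vs.nonunits : Set K) := hnon ⟨_, Ideal.mem_map_of_mem _ ha, rfl⟩
    rw [← Vs.image_maximalIdeal] at h
    obtain ⟨v, hv, hve⟩ := h
    exact (Subtype.ext (a1 := v) (a2 := φ a) hve) ▸ hv
  have hfrac : ∀ v : Vs, ∃ a b : A, b ∉ p' ∧ φ b * v = φ a := fun v => by
    obtain ⟨d, e, he, hde⟩ := IsFractionRing.div_surjective D (v : K)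
    obtain ⟨a, rfl⟩ := Ideal.Quotient.mk_surjective d
    obtain ⟨b, rfl⟩ := Ideal.Quotient.mk_surjective e
    have hb : b ∉ p' := fun h => nonZeroDivisors.ne_zero he (Ideal.Quotient.eq_zero_iff_mem.mpr h)
    refine ⟨a, b, hb, Subtype.ext ?_⟩
    show ψ b * (v : K) = ψ a
    rw [← hde]
    exact mul_div_cancel₀ _ fun h => hb ((hψ b).mp h)
  -- the base change
  let T := Vs ⊗[A] B
  haveI : Module.FaithfullyFlat Vs T := inferInstance
  let m := IsLocalRing.maximalIdeal Vs
  have hmT : m.map (algebraMap Vs T) ≠ ⊤ := fun h => by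
    have := Module.FaithfullyFlat.submodule_ne_top (R := Vs) (M := T)
      (IsLocalRing.maximalIdeal.isMaximal Vs)
    exact this (by rw [Ideal.smul_top_eq_map, h]; rfl)
  obtain ⟨z₀, hz₀, hz₀le⟩ := Ideal.exists_le_maximal _ hmT
  have hz₀m : z₀.comap (algebraMap Vs T) = m :=
    ((IsLocalRing.maximalIdeal.isMaximal Vs).eq_of_le (Ideal.IsPrime.ne_top inferInstance)
      (Ideal.map_le_iff_le_comap.mp hz₀le)).symm
  haveI : z₀.LiesOver m := ⟨hz₀m.symm⟩
  obtain ⟨Q₀, hQ₀z, hQ₀p, hQ₀⟩ := Ideal.exists_ideal_le_liesOver_of_le (p := (⊥ : Ideal Vs)) (q := m) z₀ bot_le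
  let C := T ⧸ Q₀
  have hCinj : Function.Injective (algebraMap Vs C) := by
    rw [injective_iff_map_eq_zero]
    intro v hv
    rw [IsScalarTower.algebraMap_apply Vs T C, Ideal.Quotient.algebraMap_eq,
      Ideal.Quotient.eq_zero_iff_mem] at hv
    have : v ∈ (⊥ : Ideal Vs) := by rw [hQ₀.over]; exact hv
    simpa using this
  have hCne : m.map (algebraMap Vs C) ≠ ⊤ := by
    intro h
    have hle : m.map (algebraMap Vs C) ≤ z₀.map (Ideal.Quotient.mk Q₀) := by
      rw [IsScalarTower.algebraMap_eq Vs T C, ← Ideal.map_map, Ideal.Quotient.algebraMap_eq]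
      exact Ideal.map_mono hz₀le
    rw [h, top_le_iff] at hle
    have := congrArg (Ideal.comap (Ideal.Quotient.mk Q₀)) hle
    rw [Ideal.comap_map_of_surjective _ Ideal.Quotient.mk_surjective, ← RingHom.ker_eq_comap_bot,
      Ideal.mk_ker, sup_eq_left.mpr hQ₀z, Ideal.comap_top] at this
    exact hz₀.ne_top this
  haveI : Algebra.FiniteType Vs C := .of_surjective (Ideal.Quotient.mkₐ Vs Q₀) Ideal.Quotient.mk_surjective
  obtain ⟨Q, z, hQ, hz, hQz, hzm, hQbot, hQmax⟩ := exists_closed_generic_le hCinj hCne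
  let ι : B →+* C := (Ideal.Quotient.mk Q₀).comp Algebra.TensorProduct.includeRight.toRingHom
  have hιA : ∀ a, ι (algebraMap A B a) = algebraMap Vs C (φ a) := fun a => by
    show Ideal.Quotient.mk Q₀ (Algebra.TensorProduct.includeRight (R := A) (A := Vs) (algebraMap A B a)) = _
    rw [AlgHom.commutes, IsScalarTower.algebraMap_apply Vs T C]
    rfl
  have hgen : ∀ t : T, ∃ a : A, a ∉ p' ∧ ∃ b : B, algebraMap Vs T (φ a) * t =
      Algebra.TensorProduct.includeRight (R := A) (A := Vs) b := by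
    intro t
    induction t using TensorProduct.induction_on with
    | zero => exact ⟨1, fun h => (‹p'.IsPrime›).ne_top ((Ideal.eq_top_iff_one _).mpr h), 0, by simp⟩
    | tmul v b =>
      obtain ⟨a, d, hd, hda⟩ := hfrac v
      refine ⟨d, hd, a • b, ?_⟩
      rw [Algebra.TensorProduct.algebraMap_apply, Algebra.TensorProduct.tmul_mul_tmul, one_mul,
        Algebra.algebraMap_self, RingHom.id_apply, hda, Algebra.TensorProduct.includeRight_apply,
        ← TensorProduct.smul_tmul, Algebra.smul_def, mul_one]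
    | add x y hx hy =>
      obtain ⟨a₁, ha₁, b₁, hb₁⟩ := hx
      obtain ⟨a₂, ha₂, b₂, hb₂⟩ := hy
      refine ⟨a₁ * a₂, (‹p'.IsPrime›).mul_notMem ha₁ ha₂, a₂ • b₁ + a₁ • b₂, ?_⟩
      rw [map_add, map_smul, map_smul, ← hb₁, ← hb₂, Algebra.smul_def, Algebra.smul_def, map_mul,
        map_mul, IsScalarTower.algebraMap_apply A Vs T, IsScalarTower.algebraMap_apply A Vs T]
      ring
  let b := Q.comap ι
  haveI : b.IsPrime := Ideal.comap_isPrime _ _
  have hbA : ∀ a, a ∈ b.comap (algebraMap A B) ↔ a ∈ p' := fun a => by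
    show ι (algebraMap A B a) ∈ Q ↔ _
    rw [hιA, ← Ideal.mem_comap, hQbot, Ideal.mem_bot, ← hψ, ← hφ]
    exact (Subtype.ext_iff : φ a = 0 ↔ _)
  obtain ⟨M, ⟨hbM, hM⟩, hfM⟩ : ∃ M : Ideal B, (b ≤ M ∧ M.IsMaximal) ∧ algebraMap A B f ∉ M := by
    by_contra h
    push Not at h
    have : algebraMap A B f ∈ b := by
      rw [← isJacobsonRing_iff_prime_eq.mp ‹IsJacobsonRing B› b inferInstance]
      exact Ideal.mem_sInf.mpr fun {J} hJ => h J hJ
    exact hfp' ((hbA f).mp this)
  have hMA : M.comap (algebraMap A B) = p' :=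
    hmaxp _ (Ideal.comap_isPrime _ _) (fun a ha => hbM ((hbA a).mpr ha)) hfM
  -- lift `M` to `T`
  let L := B ⧸ M
  letI : Field L := Ideal.Quotient.field M
  let σ : D →+* L := Ideal.Quotient.lift p' ((Ideal.Quotient.mk M).comp (algebraMap A B)) fun a ha => by
    rw [RingHom.comp_apply, Ideal.Quotient.eq_zero_iff_mem, ← Ideal.mem_comap, hMA]; exact ha
  have hσ : Function.Injective σ := by
    rw [injective_iff_map_eq_zero]
    intro x hx
    obtain ⟨a, rfl⟩ := Ideal.Quotient.mk_surjective x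
    refine Ideal.Quotient.eq_zero_iff_mem.mpr ?_
    rw [← hMA, Ideal.mem_comap, ← Ideal.Quotient.eq_zero_iff_mem]
    exact hx
  let τ : K →+* L := IsFractionRing.lift hσ
  have hτ : ∀ a, τ (ψ a) = Ideal.Quotient.mk M (algebraMap A B a) := fun a => by
    show τ (algebraMap D K (Ideal.Quotient.mk p' a)) = _
    rw [IsFractionRing.lift_algebraMap]; rfl
  let αV : Vs →ₐ[A] L := { τ.comp Vs.subtype with commutes' := fun a => hτ a }
  let Φ : T →ₐ[A] L := Algebra.TensorProduct.lift αV (Ideal.Quotient.mkₐ A M) fun _ _ => .all _ _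
  have hΦV : ∀ v : Vs, Φ (algebraMap Vs T v) = τ (v : K) := fun v => by
    rw [Algebra.TensorProduct.algebraMap_apply, Algebra.algebraMap_self, RingHom.id_apply]
    show Algebra.TensorProduct.lift αV _ _ (v ⊗ₜ[A] (1 : B)) = _
    rw [Algebra.TensorProduct.lift_tmul, map_one, mul_one]; rfl
  have hQΦ : ∀ t : T, Ideal.Quotient.mk Q₀ t ∈ Q → Φ t = 0 := by
    intro t ht
    obtain ⟨a, ha, b', hb'⟩ := hgen t
    have hb'M : b' ∈ M := hbM (by
      show Ideal.Quotient.mk Q₀ (Algebra.TensorProduct.includeRight (R := A) (A := Vs) b') ∈ Q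
      rw [← hb', map_mul]; exact Q.mul_mem_left _ ht)
    have h := congrArg Φ hb'
    rw [map_mul, hΦV, show Φ (Algebra.TensorProduct.includeRight (R := A) (A := Vs) b') = 0 by
      show Algebra.TensorProduct.lift αV _ _ ((1 : Vs) ⊗ₜ[A] b') = _
      rw [Algebra.TensorProduct.lift_tmul, map_one, one_mul]
      exact Ideal.Quotient.eq_zero_iff_mem.mpr hb'M] at h
    refine (mul_eq_zero.mp h).resolve_left fun h0 => ha ?_
    rw [map_eq_zero_iff _ τ.injective, hφ, hψ] at h0
    exact h0
  let Φ' : C →+* L := Ideal.Quotient.lift Q₀ Φ.toRingHom fun t ht => hQΦ t (by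
    rw [Ideal.Quotient.eq_zero_iff_mem.mpr ht]; exact zero_mem _)
  have hker : RingHom.ker Φ' ≤ Q := by
    refine hQmax _ (RingHom.ker_isPrime Φ') (fun c hc => ?_) ?_
    · obtain ⟨t, rfl⟩ := Ideal.Quotient.mk_surjective c
      exact hQΦ t hc
    · refine eq_bot_iff.mpr fun v hv => ?_
      have h : Φ' (algebraMap Vs C v) = 0 := hv
      rw [IsScalarTower.algebraMap_apply Vs T C] at h
      have h' : Φ (algebraMap Vs T v) = 0 := h
      rw [hΦV, map_eq_zero_iff _ τ.injective] at h'
      exact Subtype.ext h'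
  have hMb : b = M := le_antisymm hbM fun x hx => hker (by
    show Φ (Algebra.TensorProduct.includeRight (R := A) (A := Vs) x) = 0
    show Algebra.TensorProduct.lift αV _ _ ((1 : Vs) ⊗ₜ[A] x) = _
    rw [Algebra.TensorProduct.lift_tmul, map_one, one_mul]
    exact Ideal.Quotient.eq_zero_iff_mem.mpr hx)
  haveI := hz
  have hzM : z.comap ι = M :=
    (hM.eq_of_le (Ideal.IsPrime.ne_top (Ideal.comap_isPrime ι z)) (hMb ▸ Ideal.comap_mono hQz)).symm
  refine hfM (hzM ▸ ?_)
  show ι (algebraMap A B f) ∈ z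
  rw [hιA, ← Ideal.mem_comap, hzm]
  exact hqV f hfq

end GrothLib.JacobsonDescent
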